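import Groth.Agent.FibreDense.Val
import Groth.Agent.UnivOpen.Main

/-!
# Dominance of fibre images over affine spaces propagates to generisations

For sections `T` on an open `U` of `X`, `Dom` says that no nonzero polynomial over `κ(t)` vanishes at
all field valued points over `t` lying in a given set; this measures the dimension of the closure.
-/

set_option autoImplicit false
set_option backward.isDefEq.respectTransparency false
universe u

open CategoryTheory Limits AlgebraicGeometry TopologicalSpace Topology TensorProduct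

namespace Groth.Agent.FibreDense

variable {X S : Scheme.{u}} (f : X ⟶ S) {n : ℕ}

/-- The evaluation at a field valued point. -/
noncomputable def ev {K : Type u} [Field K] {U : X.Opens} (T : Fin n → Γ(X, U)) {R : Type u} [CommRing R]
    (a : R →+* K) (χ : Spec (CommRingCat.of K) ⟶ X) (h : χ (IsLocalRing.closedPoint K) ∈ U) :
    MvPolynomial (Fin n) R →+* K :=
  MvPolynomial.eval₂Hom a fun j => val χ U h (T j)

/-- Polynomials over the residue field do not vanish on `E` over `t`. -/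
def Dom (t : S) (E : Set X) {U : X.Opens} (T : Fin n → Γ(X, U)) : Prop :=
  ∀ G : MvPolynomial (Fin n) (S.residueField t), G ≠ 0 →
    ∃ (K : Type u) (_ : Field K) (a : S.residueField t →+* K) (χ : Spec (CommRingCat.of K) ⟶ X)
      (h : χ (IsLocalRing.closedPoint K) ∈ U),
      χ ≫ f = Spec.map (CommRingCat.ofHom a) ≫ S.fromSpecResidueField t ∧
      χ (IsLocalRing.closedPoint K) ∈ E ∧ ev T a χ h G ≠ 0

variable {f}

theorem val_section {P : Scheme.{u}} {R : Type u} [CommRing R] (q : P ⟶ Spec (CommRingCat.of R)) (g : P ⟶ X)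
    {U : X.Opens} (T : Fin n → Γ(X, U)) (G : MvPolynomial (Fin n) R) {K : Type u} [Field K]
    (χ : Spec (CommRingCat.of K) ⟶ P) (h : χ (IsLocalRing.closedPoint K) ∈ g ⁻¹ᵁ U) {a : R →+* K}
    (ha : χ ≫ q = Spec.map (CommRingCat.ofHom a)) :
    val χ (g ⁻¹ᵁ U) h (MvPolynomial.eval₂ (const q (g ⁻¹ᵁ U)) (fun j => g.app U (T j)) G) =
      ev T a (χ ≫ g) h G := by
  have e : ((val χ (g ⁻¹ᵁ U) h).hom.comp (const q (g ⁻¹ᵁ U))) = a := val_const q χ _ h ha
  show (val χ (g ⁻¹ᵁ U) h).hom _ = _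
  rw [MvPolynomial.eval₂_comp_left, e]
  show _ = MvPolynomial.eval₂ a (fun j => val (χ ≫ g) U h (T j)) G
  congr 1

theorem section_fiber_ne_zero_iff (t : S) {U : X.Opens} (T : Fin n → Γ(X, U))
    (G : MvPolynomial (Fin n) (S.residueField t)) {K : Type u} [Field K]
    (χ : Spec (CommRingCat.of K) ⟶ f.fiber t) (h : χ (IsLocalRing.closedPoint K) ∈ f.fiberι t ⁻¹ᵁ U)
    {a : S.residueField t →+* K} (ha : χ ≫ f.fiberToSpecResidueField t = Spec.map (CommRingCat.ofHom a)) :
    ev T a (χ ≫ f.fiberι t) h G ≠ 0 ↔ χ (IsLocalRing.closedPoint K) ∈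
      (f.fiber t).basicOpen (MvPolynomial.eval₂ (const (R := S.residueField t) (f.fiberToSpecResidueField t)
        (f.fiberι t ⁻¹ᵁ U)) (fun j => (f.fiberι t).app U (T j)) G) := by
  rw [← val_section (R := S.residueField t) (f.fiberToSpecResidueField t) (f.fiberι t) T G χ h ha]
  exact val_ne_zero_iff _ _ _ _

/-- The point of the fibre given by a field valued point. -/
theorem exists_fiber_lift (t : S) {K : Type u} [Field K] {a : S.residueField t →+* K}
    (χ : Spec (CommRingCat.of K) ⟶ X) (H : χ ≫ f = Spec.map (CommRingCat.ofHom a) ≫ S.fromSpecResidueField t) :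
    ∃ l : Spec (CommRingCat.of K) ⟶ f.fiber t,
      l ≫ f.fiberι t = χ ∧ l ≫ f.fiberToSpecResidueField t = Spec.map (CommRingCat.ofHom a) :=
  ⟨pullback.lift χ _ H, pullback.lift_fst _ _ _, pullback.lift_snd _ _ _⟩

theorem topologicalKrullDim_fiber_closure (t : S) (E : Set X) :
    topologicalKrullDim ↥(f.base ⁻¹' {t} ∩ closure (E ∩ f.base ⁻¹' {t})) =
      topologicalKrullDim ↥(closure (f.fiberι t ⁻¹' E)) := by
  have himg : f.fiberι t '' (f.fiberι t ⁻¹' E) = E ∩ f.base ⁻¹' {t} := by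
    rw [Set.image_preimage_eq_inter_range, f.range_fiberι]
  have hcl : closure (f.fiberι t ⁻¹' E) = f.fiberι t ⁻¹' closure (E ∩ f.base ⁻¹' {t}) := by
    rw [(f.fiberι t).isEmbedding.closure_eq_preimage_closure_image, himg]
  let A : Set X := f.base ⁻¹' {t} ∩ closure (E ∩ f.base ⁻¹' {t})
  let B : Set ↥(f.fiber t) := closure (f.fiberι t ⁻¹' E)
  have h1 : ∀ z : A, (f.fiberHomeo t).symm ⟨z.1, z.2.1⟩ ∈ B := fun z => by
    show _ ∈ closure (f.fiberι t ⁻¹' E)
    rw [hcl]
    show f.fiberι t _ ∈ closure (E ∩ f.base ⁻¹' {t})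
    rw [f.fiberι_fiberHomeo_symm]
    exact z.2.2
  have h2 : ∀ z : B, f.fiberι t z.1 ∈ A := fun z =>
    ⟨(f.fiberHomeo t z.1).2, (hcl.le z.2 :)⟩
  let g1 : A → B := fun z => ⟨_, h1 z⟩
  let g2 : B → A := fun z => ⟨_, h2 z⟩
  refine le_antisymm (IsInducing.topologicalKrullDim_le (f := g1) ?_)
    (IsInducing.topologicalKrullDim_le (f := g2) ?_)
  · have hc : Continuous g1 := ((f.fiberHomeo t).symm.continuous.comp
      (continuous_subtype_val.subtype_mk _)).subtype_mk _
    refine IsInducing.of_comp hc continuous_subtype_val ?_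
    exact (f.fiberHomeo t).symm.isEmbedding.isInducing.comp
      (IsInducing.of_comp (continuous_subtype_val.subtype_mk _) continuous_subtype_val IsInducing.subtypeVal)
  · have hc : Continuous g2 := ((f.fiberι t).continuous.comp continuous_subtype_val).subtype_mk _
    refine IsInducing.of_comp hc continuous_subtype_val ?_
    exact (f.fiberι t).isEmbedding.isInducing.comp IsInducing.subtypeVal

theorem surjective_preimage_fromSpec {k : Type u} [Field k] (y : Spec (CommRingCat.of k)) :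
    Function.Surjective (Spec.preimage ((Spec (CommRingCat.of k)).fromSpecResidueField y)).hom := by
  have h := val_const (R := k) (𝟙 _) ((Spec (CommRingCat.of k)).fromSpecResidueField y) ⊤ trivial
    (a := Spec.preimage ((Spec (CommRingCat.of k)).fromSpecResidueField y)) (by simp)
  rw [val_fromSpecResidueField y ⊤ trivial] at h
  intro z
  obtain ⟨c, hc⟩ := (DimTrdeg.bijective_evaluation_Spec y).2 z
  refine ⟨c, ?_⟩
  rw [← h, ← hc]
  simp [const, Scheme.Γevaluation]
  rfl

variable [LocallyOfFiniteType f] [QuasiCompact f]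

/-- From dimension to dominance. -/
theorem exists_dom (t : S) (E : Set X)
    (hn : (n : WithBot ℕ∞) ≤ topologicalKrullDim ↥(closure (f.fiberι t ⁻¹' E))) :
    ∃ (U : X.Opens) (T : Fin n → Γ(X, U)), Dom f t E T := by
  let F := f.fiber t
  let q := f.fiberToSpecResidueField t
  have : LocallyOfFiniteType q := MorphismProperty.pullback_snd _ _ inferInstance
  obtain ⟨l, hl⟩ := Order.le_krullDim_iff.1 hn
  let g := IrreducibleCloseds.map (Subtype.val : closure (f.fiberι t ⁻¹' E) → F) continuous_subtype_val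
  let L : LTSeries (IrreducibleCloseds F) :=
    l.map g (IrreducibleCloseds.map_strictMono_of_isInducing IsInducing.subtypeVal)
  obtain ⟨η, hη⟩ := QuasiSober.sober L.last.isIrreducible L.last.isClosed
  have hηC : η ∈ closure (f.fiberι t ⁻¹' E) := by
    have h1 : (L.last : Set F) ⊆ closure (f.fiberι t ⁻¹' E) := by
      refine closure_minimal ?_ isClosed_closure
      rintro _ ⟨y, -, rfl⟩
      exact y.2
    exact h1 hη.mem
  obtain ⟨m, hm, hmdim⟩ := DimTrdeg.exists_dim_closure_eq_trdeg (k := S.residueField t) q η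
  have hnm : (n : WithBot ℕ∞) ≤ (m : WithBot ℕ∞) := by
    rw [← hmdim, ← hl]
    refine BMCoh.length_le_topologicalKrullDim (A := F) (closure {η}) L fun i => ?_
    rw [hη.def]
    exact (L.monotone (Fin.le_last i) :)
  have hnm' : n ≤ m := by exact_mod_cast hnm
  -- independent elements
  let := (q.residueFieldMap η).hom.toAlgebra
  obtain ⟨s, hs⟩ := exists_isTranscendenceBasis' ((Spec (CommRingCat.of (S.residueField t))).residueField (q η))
    (F.residueField η)
  obtain ⟨x, hx⟩ := hs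
  have hcard : Cardinal.mk s = m := hx.cardinalMk_eq_trdeg.trans hm
  have : Finite s := Cardinal.lt_aleph0_iff_finite.1 (hcard ▸ Cardinal.nat_lt_aleph0 m)
  obtain ⟨e⟩ : Nonempty (Fin n ↪ s) := by
    rw [← Cardinal.lift_mk_le', hcard]
    simp [hnm']
  have hind := hx.1.comp e e.injective
  -- lift to sections
  have hsurj : Function.Surjective ((f.fiberι t).residueFieldMap η).hom := by
    intro z
    obtain ⟨z', rfl⟩ := F.residue_surjective η z
    obtain ⟨y, rfl⟩ := (f.fiberι t).stalkMap_surjective η z'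
    exact ⟨X.residue _ y, congr($(Scheme.residue_residueFieldMap (f.fiberι t) η) y)⟩
  choose y hy using fun j => hsurj (x (e j))
  choose y' hy' using fun j => X.residue_surjective (f.fiberι t η) (y j)
  choose Uj hUj tj htj using fun j => X.presheaf.exists_germ_eq (y' j)
  let U : X.Opens := ⟨⋂ j, (Uj j : Set X), isOpen_iInter_of_finite fun j => (Uj j).2⟩
  have hle : ∀ j, U ≤ Uj j := fun j => fun z hz => Set.mem_iInter.1 hz j
  have hηU : f.fiberι t η ∈ U := Set.mem_iInter.2 hUj
  let T : Fin n → Γ(X, U) := fun j => X.presheaf.map (homOfLE (hle j)).op (tj j)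
  refine ⟨U, T, fun G hG => ?_⟩
  let χ₀ : Spec (CommRingCat.of (F.residueField η)) ⟶ F := F.fromSpecResidueField η
  have hpt : χ₀ (IsLocalRing.closedPoint (F.residueField η)) = η := Scheme.fromSpecResidueField_apply η _
  have h₀ : χ₀ (IsLocalRing.closedPoint (F.residueField η)) ∈ f.fiberι t ⁻¹ᵁ U := hpt.symm ▸ hηU
  let a₀ : S.residueField t →+* F.residueField η := (Spec.preimage (χ₀ ≫ q)).hom
  have ha₀ : χ₀ ≫ q = Spec.map (CommRingCat.ofHom a₀) := (Spec.map_preimage _).symm
  let c₀ := Spec.preimage ((Spec (CommRingCat.of (S.residueField t))).fromSpecResidueField (q η))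
  have hca : a₀ = (q.residueFieldMap η).hom.comp c₀.hom := by
    refine congrArg CommRingCat.Hom.hom (Spec.map_injective ((Spec.map_preimage _).trans ?_) :
      Spec.preimage (χ₀ ≫ q) = c₀ ≫ q.residueFieldMap η)
    rw [Spec.map_comp, Spec.map_preimage]
    exact (q.SpecMap_residueFieldMap_fromSpecResidueField η).symm
  have hval : ∀ j, val (χ₀ ≫ f.fiberι t) U h₀ (T j) = x (e j) := fun j => by
    rw [val_comp χ₀ (f.fiberι t) U h₀]
    show val χ₀ (f.fiberι t ⁻¹ᵁ U) h₀ ((f.fiberι t).app U (T j)) = _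
    rw [show val χ₀ (f.fiberι t ⁻¹ᵁ U) h₀ = F.evaluation _ η hηU from val_fromSpecResidueField η _ hηU,
      ← Scheme.evaluation_naturality_apply (f.fiberι t) η hηU (T j), ← hy j, ← hy' j, ← htj j]
    exact congrArg _ (congrArg _ (X.presheaf.germ_res_apply (homOfLE (hle j)) _ hηU (tj j)))
  have hne : ev T a₀ (χ₀ ≫ f.fiberι t) h₀ G ≠ 0 := by
    show MvPolynomial.eval₂ a₀ (fun j => val (χ₀ ≫ f.fiberι t) U h₀ (T j)) G ≠ 0
    rw [funext hval, hca, ← MvPolynomial.eval₂_map]
    intro h0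
    refine hG (MvPolynomial.map_injective c₀.hom c₀.hom.injective ?_)
    rw [map_zero]
    exact hind.eq_zero_of_aeval_eq_zero _ h0
  rw [section_fiber_ne_zero_iff t T G χ₀ h₀ ha₀, hpt] at hne
  obtain ⟨z, hz, hzE⟩ := mem_closure_iff.1 hηC _ (F.basicOpen _).2 hne
  let χ : Spec (CommRingCat.of (F.residueField z)) ⟶ F := F.fromSpecResidueField z
  have hzpt : χ (IsLocalRing.closedPoint (F.residueField z)) = z := Scheme.fromSpecResidueField_apply z _
  have ha : χ ≫ q = Spec.map (CommRingCat.ofHom (Spec.preimage (χ ≫ q)).hom) := (Spec.map_preimage _).symm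
  have hzU : χ (IsLocalRing.closedPoint (F.residueField z)) ∈ f.fiberι t ⁻¹ᵁ U :=
    hzpt.symm ▸ (Scheme.basicOpen_le _ _ hz)
  refine ⟨F.residueField z, inferInstance, (Spec.preimage (χ ≫ q)).hom, χ ≫ f.fiberι t, hzU, ?_, ?_, ?_⟩
  · rw [Category.assoc, f.fiber_fac, ← Category.assoc]
    exact congrArg (· ≫ S.fromSpecResidueField t) ha
  · show f.fiberι t (χ _) ∈ E
    rw [hzpt]
    exact hzE
  · rw [section_fiber_ne_zero_iff t T G χ hzU ha, hzpt]
    exact hz

/-- From dominance to dimension. -/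
theorem le_dim_of_dom (t : S) (E : Set X) {U : X.Opens} {T : Fin n → Γ(X, U)} (hdom : Dom f t E T) :
    (n : WithBot ℕ∞) ≤ topologicalKrullDim ↥(closure (f.fiberι t ⁻¹' E)) := by
  classical
  let F := f.fiber t
  let q := f.fiberToSpecResidueField t
  have : LocallyOfFiniteType q := MorphismProperty.pullback_snd _ _ inferInstance
  have : IsLocallyNoetherian F := LocallyOfFiniteType.isLocallyNoetherian q
  have : AlgebraicGeometry.IsNoetherian F := { }
  by_contra hlt
  obtain ⟨s, hs⟩ := NoetherianSpace.exists_finset_irreducible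
    (⟨closure (f.fiberι t ⁻¹' E), isClosed_closure⟩ : Closeds F)
  have hcomp : ∀ Z ∈ s, ∃ G : MvPolynomial (Fin n) (S.residueField t), G ≠ 0 ∧
      ∀ z ∈ ((Z : Closeds F) : Set F), ∀ hz : z ∈ f.fiberι t ⁻¹ᵁ U, z ∉ F.basicOpen
        (MvPolynomial.eval₂ (const (R := S.residueField t) q (f.fiberι t ⁻¹ᵁ U))
          (fun j => (f.fiberι t).app U (T j)) G) := by
    intro Z hZ
    obtain ⟨η, hη⟩ := QuasiSober.sober (hs.1 ⟨Z, hZ⟩) Z.isClosed
    by_cases hηU : η ∈ f.fiberι t ⁻¹ᵁ U
    swap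
    · exact ⟨1, one_ne_zero, fun z hz hzU => absurd ((hη.specializes hz).mem_open (f.fiberι t ⁻¹ᵁ U).2 hzU) hηU⟩
    let χ₀ : Spec (CommRingCat.of (F.residueField η)) ⟶ F := F.fromSpecResidueField η
    have hpt : χ₀ (IsLocalRing.closedPoint (F.residueField η)) = η := Scheme.fromSpecResidueField_apply η _
    have h₀ : χ₀ (IsLocalRing.closedPoint (F.residueField η)) ∈ f.fiberι t ⁻¹ᵁ U := hpt.symm ▸ hηU
    let a₀ : S.residueField t →+* F.residueField η := (Spec.preimage (χ₀ ≫ q)).hom
    have ha₀ : χ₀ ≫ q = Spec.map (CommRingCat.ofHom a₀) := (Spec.map_preimage _).symm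
    let := (q.residueFieldMap η).hom.toAlgebra
    let c₀ := Spec.preimage ((Spec (CommRingCat.of (S.residueField t))).fromSpecResidueField (q η))
    have hca : a₀ = (q.residueFieldMap η).hom.comp c₀.hom := by
      refine congrArg CommRingCat.Hom.hom (Spec.map_injective ((Spec.map_preimage _).trans ?_) :
        Spec.preimage (χ₀ ≫ q) = c₀ ≫ q.residueFieldMap η)
      rw [Spec.map_comp, Spec.map_preimage]
      exact (q.SpecMap_residueFieldMap_fromSpecResidueField η).symm
    obtain ⟨G, hG, hG0⟩ : ∃ G, G ≠ 0 ∧ ev T a₀ (χ₀ ≫ f.fiberι t) h₀ G = 0 := by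
      by_contra hall
      push Not at hall
      have hind : AlgebraicIndependent ((Spec (CommRingCat.of (S.residueField t))).residueField (q η))
          (fun j => val (χ₀ ≫ f.fiberι t) U h₀ (T j)) := by
        rw [algebraicIndependent_iff]
        intro G' hG'
        obtain ⟨G, rfl⟩ := MvPolynomial.map_surjective c₀.hom (surjective_preimage_fromSpec (q η)) G'
        by_contra hne
        refine hall G (fun h0 => hne (by rw [h0, map_zero])) ?_
        show MvPolynomial.eval₂ a₀ _ G = 0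
        rw [hca, ← MvPolynomial.eval₂_map]
        exact hG'
      obtain ⟨m, hm, hmdim⟩ := DimTrdeg.exists_dim_closure_eq_trdeg (k := S.residueField t) q η
      have hsub : ∀ z ∈ closure ({η} : Set F), z ∈ closure (f.fiberι t ⁻¹' E) := fun z hz => by
        have h2 : Z ≤ (⟨closure (f.fiberι t ⁻¹' E), isClosed_closure⟩ : Closeds F) := by
          rw [hs.2]; exact Finset.le_sup (f := id) hZ
        exact h2 (hη.def.le hz :)
      refine hlt (le_trans ?_ (hmdim.ge.trans (IsInducing.topologicalKrullDim_le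
        (f := Set.inclusion hsub) (Topology.IsEmbedding.inclusion hsub).isInducing)))
      have h1 := hind.lift_cardinalMk_le_trdeg.trans_eq (congrArg Cardinal.lift hm)
      simp at h1
      exact_mod_cast h1
    refine ⟨G, hG, fun z hz _ hzb => ?_⟩
    have hηb := (hη.specializes hz).mem_open (F.basicOpen _).2 hzb
    rw [← hpt] at hηb
    exact (section_fiber_ne_zero_iff t T G χ₀ h₀ ha₀).2 hηb hG0
  choose! G hG0 hG using hcomp
  obtain ⟨K, _, a, χ, h, H, hE, hne⟩ := hdom (∏ Z ∈ s, G Z) (Finset.prod_ne_zero_iff.2 hG0)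
  obtain ⟨l, rfl, hl⟩ := exists_fiber_lift t χ H
  have hmem : l (IsLocalRing.closedPoint K) ∈ closure (f.fiberι t ⁻¹' E) := subset_closure hE
  have h3 : l (IsLocalRing.closedPoint K) ∈ ((s.sup id : Closeds F) : Set F) := by
    rw [← hs.2]; exact hmem
  rw [Closeds.coe_finset_sup, Finset.sup_eq_iSup] at h3
  simp only [Set.iSup_eq_iUnion, Set.mem_iUnion] at h3
  obtain ⟨Z, hZ, hlZ⟩ := h3
  rw [map_prod, Finset.prod_ne_zero_iff] at hne
  exact hG Z hZ _ hlZ h ((section_fiber_ne_zero_iff t (T) (G Z) l h hl).1 (hne Z hZ))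

omit [LocallyOfFiniteType f] [QuasiCompact f]

/-- Extending coefficients in polynomial rings is open on spectra. -/
theorem isOpenMap_comap_map {k L : Type u} [Field k] [Field L] (φ : k →+* L) (σ : Type) :
    IsOpenMap (PrimeSpectrum.comap (MvPolynomial.map φ : MvPolynomial σ k →+* MvPolynomial σ L)) := by
  let := φ.toAlgebra
  let e : (MvPolynomial σ k ⊗[k] L) ≃+* MvPolynomial σ L :=
    (Algebra.TensorProduct.comm k (MvPolynomial σ k) L).toRingEquiv.trans
      (MvPolynomial.algebraTensorAlgEquiv k L).toRingEquiv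
  have he : (MvPolynomial.map φ : MvPolynomial σ k →+* MvPolynomial σ L) =
      e.toRingHom.comp (algebraMap (MvPolynomial σ k) (MvPolynomial σ k ⊗[k] L)) := by
    refine RingHom.ext fun G => ?_
    show _ = MvPolynomial.algebraTensorAlgEquiv k L (Algebra.TensorProduct.comm k _ L (G ⊗ₜ[k] (1 : L)))
    rw [Algebra.TensorProduct.comm_tmul, MvPolynomial.algebraTensorAlgEquiv_tmul, one_smul]
    rfl
  rw [he, PrimeSpectrum.comap_comp]
  exact PrimeSpectrum.isOpenMap_comap_algebraMap_tensorProduct_of_field.comp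
    (PrimeSpectrum.homeomorphOfRingEquiv e).symm.isOpenMap

/-- Specialising a dominance condition along a field extension. -/
theorem exists_witness {k L : Type u} [Field k] [Field L] (φ : k →+* L) {H : MvPolynomial (Fin n) L} (hH : H ≠ 0) :
    ∃ G₀ : MvPolynomial (Fin n) k, G₀ ≠ 0 ∧ ∀ (K₀ : Type u) [Field K₀] (e₀ : MvPolynomial (Fin n) k →+* K₀),
      e₀ G₀ ≠ 0 → ∃ (K : Type u) (_ : Field K) (σ : K₀ →+* K) (τ : MvPolynomial (Fin n) L →+* K),
        (∀ x, σ (e₀ x) = τ (MvPolynomial.map φ x)) ∧ τ H ≠ 0 := by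
  have himg : IsOpen (PrimeSpectrum.comap (MvPolynomial.map φ : MvPolynomial (Fin n) k →+* MvPolynomial (Fin n) L) ''
      (PrimeSpectrum.basicOpen H : Set (PrimeSpectrum (MvPolynomial (Fin n) L)))) :=
    isOpenMap_comap_map φ _ _ (PrimeSpectrum.basicOpen _).isOpen
  have hne : (⊥ : PrimeSpectrum (MvPolynomial (Fin n) L)) ∈ PrimeSpectrum.basicOpen H :=
    fun h => hH (Ideal.mem_bot.1 h)
  obtain ⟨_, ⟨G₀, rfl⟩, hPG₀, hG₀sub⟩ := PrimeSpectrum.isTopologicalBasis_basic_opens.exists_subset_of_mem_open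
    (Set.mem_image_of_mem _ hne) himg
  refine ⟨G₀, fun h0 => hPG₀ (h0 ▸ Ideal.zero_mem _), fun K₀ _ e₀ he₀ => ?_⟩
  obtain ⟨Q, hQG, hQc⟩ := hG₀sub (show (⟨RingHom.ker e₀, RingHom.ker_isPrime _⟩ : PrimeSpectrum _) ∈
    (PrimeSpectrum.basicOpen G₀ : Set _) from he₀)
  have hQ : RingHom.ker e₀ = Q.asIdeal.comap (MvPolynomial.map φ) := (congrArg PrimeSpectrum.asIdeal hQc).symm
  have := RingHom.ker_isPrime e₀
  let b : (RingHom.ker e₀).ResidueField →+* K₀ := Ideal.ResidueField.lift _ e₀ le_rfl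
    (fun x hx => isUnit_iff_ne_zero.2 fun h0 => hx h0)
  let α : (RingHom.ker e₀).ResidueField →+* Q.asIdeal.ResidueField :=
    Ideal.ResidueField.map _ _ (MvPolynomial.map φ) hQ
  obtain ⟨K, hK, σ, τ₀, hστ⟩ := UnivOpen.exists_field_amalgam b α
  refine ⟨K, hK, σ, τ₀.comp (algebraMap _ Q.asIdeal.ResidueField), fun x => ?_, ?_⟩
  · have := hστ (algebraMap _ _ x)
    rw [Ideal.ResidueField.lift_algebraMap, Ideal.ResidueField.map_algebraMap] at this
    exact this
  · rw [RingHom.comp_apply, map_ne_zero]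
    exact fun h0 => hQG (Ideal.algebraMap_residueField_eq_zero.1 h0)

/-- A valuation ring of `κ(s')` dominating the specialisation to `s`. -/
theorem exists_valuation_base {s s' : S} (hs : s' ⤳ s) :
    ∃ (V : ValuationSubring (S.residueField s')) (g₀ : Spec (CommRingCat.of V) ⟶ S)
      (φ : S.residueField s →+* IsLocalRing.ResidueField V),
      Spec.map (CommRingCat.ofHom (algebraMap V (S.residueField s'))) ≫ g₀ = S.fromSpecResidueField s' ∧
      Spec.map (CommRingCat.ofHom (IsLocalRing.residue V)) ≫ g₀ =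
        Spec.map (CommRingCat.ofHom φ) ≫ S.fromSpecResidueField s := by
  let π : S.presheaf.stalk s →+* S.residueField s' := (S.presheaf.stalkSpecializes hs ≫ S.residue s').hom
  obtain ⟨V, hπ, hloc⟩ := IsLocalRing.exists_factor_valuationRing π
  let ψ : S.presheaf.stalk s →+* V := π.codRestrict V.toSubring hπ
  have : IsLocalHom ψ := hloc
  let g₀ : Spec (CommRingCat.of V) ⟶ S := Spec.map (CommRingCat.ofHom ψ) ≫ S.fromSpecStalk s
  have hgen : Spec.map (CommRingCat.ofHom (algebraMap V (S.residueField s'))) ≫ g₀ = S.fromSpecResidueField s' := by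
    rw [← Spec.map_comp_assoc, Scheme.fromSpecResidueField,
      show CommRingCat.ofHom ψ ≫ CommRingCat.ofHom (algebraMap V (S.residueField s')) =
        S.presheaf.stalkSpecializes hs ≫ S.residue s' from rfl,
      Spec.map_comp, Category.assoc, Scheme.SpecMap_stalkSpecializes_fromSpecStalk]
  let φ : S.residueField s →+* IsLocalRing.ResidueField V := IsLocalRing.ResidueField.map ψ
  have hcl : Spec.map (CommRingCat.ofHom (IsLocalRing.residue V)) ≫ g₀ =
      Spec.map (CommRingCat.ofHom φ) ≫ S.fromSpecResidueField s := by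
    rw [Scheme.fromSpecResidueField, ← Spec.map_comp_assoc, ← Spec.map_comp_assoc]
    congr 2
  exact ⟨V, g₀, φ, hgen, hcl⟩

theorem exists_normalised {K' : Type u} [Field K'] (V : ValuationSubring K') {G' : MvPolynomial (Fin n) K'}
    (hG' : G' ≠ 0) :
    ∃ (c : K') (G : MvPolynomial (Fin n) V),
      c ≠ 0 ∧ MvPolynomial.map (algebraMap V K') G = MvPolynomial.C c * G' ∧
      MvPolynomial.map (IsLocalRing.residue V) G ≠ 0 := by
  classical
  obtain ⟨m, hm, hmax⟩ := G'.support.exists_max_image (fun m => V.valuation (G'.coeff m))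
    (MvPolynomial.support_nonempty.2 hG')
  have hm0 : G'.coeff m ≠ 0 := MvPolynomial.mem_support_iff.1 hm
  have hcoef : ∀ m', (G'.coeff m)⁻¹ * G'.coeff m' ∈ V := fun m' => by
    by_cases h0 : G'.coeff m' = 0
    · rw [h0, mul_zero]; exact zero_mem _
    · rw [← ValuationSubring.valuation_le_one_iff, map_mul, map_inv₀]
      exact (inv_mul_le_one₀ (zero_lt_iff.2 ((Valuation.ne_zero_iff _).2 hm0))).2
        (hmax m' (MvPolynomial.mem_support_iff.2 h0))
  obtain ⟨G, hG⟩ := (MvPolynomial.mem_range_map_iff_coeffs_subset (f := algebraMap V K')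
    (x := MvPolynomial.C (G'.coeff m)⁻¹ * G')).2 fun y hy => by
      obtain ⟨m', -, rfl⟩ := MvPolynomial.mem_coeffs_iff.1 hy
      rw [MvPolynomial.coeff_C_mul]
      exact ⟨⟨_, hcoef m'⟩, rfl⟩
  refine ⟨_, G, inv_ne_zero hm0, hG, fun h0 => ?_⟩
  have h1 : algebraMap V K' (G.coeff m) = 1 := by
    rw [← MvPolynomial.coeff_map, hG, MvPolynomial.coeff_C_mul, inv_mul_cancel₀ hm0]
  have h2 : G.coeff m = 1 := Subtype.ext h1
  have h3 := congrArg (MvPolynomial.coeff m) h0
  rw [MvPolynomial.coeff_map, h2, map_one, MvPolynomial.coeff_zero] at h3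
  exact one_ne_zero h3

theorem exists_lift {K' L : Type u} [Field K'] [Field L] (V : ValuationSubring K') (ρ : V →+* L)
    (hρ : Function.Injective ρ) : ∃ ρ' : K' →+* L, ρ'.comp (algebraMap V K') = ρ :=
  ⟨IsFractionRing.lift hρ, RingHom.ext fun x => IsFractionRing.lift_algebraMap hρ x⟩

theorem exists_point_over {Y' : Scheme.{u}} (v : Y' ⟶ X) {K₁ : Type u} [Field K₁]
    (χ₁ : Spec (CommRingCat.of K₁) ⟶ X) (w : Y') (hw : v w = χ₁ (IsLocalRing.closedPoint K₁)) :
    ∃ (K₀ : Type u) (_ : Field K₀) (ρ₀ : K₁ →+* K₀) (χY : Spec (CommRingCat.of K₀) ⟶ Y'),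
      χY ≫ v = Spec.map (CommRingCat.ofHom ρ₀) ≫ χ₁ := by
  obtain ⟨ζ, -, -⟩ := Scheme.Pullback.exists_preimage_pullback (f := χ₁) (g := v) (IsLocalRing.closedPoint K₁) w hw.symm
  refine ⟨(pullback χ₁ v).residueField ζ, inferInstance,
    (Spec.preimage ((pullback χ₁ v).fromSpecResidueField ζ ≫ pullback.fst χ₁ v)).hom,
    (pullback χ₁ v).fromSpecResidueField ζ ≫ pullback.snd χ₁ v, ?_⟩
  rw [Category.assoc, ← pullback.condition, ← Category.assoc, CommRingCat.ofHom_hom, Spec.map_preimage]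

/-- Nonvanishing moves to the generic fibre of a universally open morphism over a valuation ring. -/
theorem exists_generic_witness {Y' : Scheme.{u}} (g : Y' ⟶ S) [UniversallyOpen g] (v : Y' ⟶ X) (hv : v ≫ f = g)
    {s' : S} (V : ValuationSubring (S.residueField s')) (g₀ : Spec (CommRingCat.of V) ⟶ S)
    (hgen : Spec.map (CommRingCat.ofHom (algebraMap V (S.residueField s'))) ≫ g₀ = S.fromSpecResidueField s')
    {U : X.Opens} (T : Fin n → Γ(X, U)) (G : MvPolynomial (Fin n) V) {K : Type u} [Field K]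
    (χK : Spec (CommRingCat.of K) ⟶ Y') (aV : V →+* K) (hcond : χK ≫ g = Spec.map (CommRingCat.ofHom aV) ≫ g₀)
    (hU : (χK ≫ v) (IsLocalRing.closedPoint K) ∈ U) (hne : ev T aV (χK ≫ v) hU G ≠ 0) :
    ∃ (K' : Type u) (_ : Field K') (a : S.residueField s' →+* K') (χ : Spec (CommRingCat.of K') ⟶ X)
      (h : χ (IsLocalRing.closedPoint K') ∈ U),
      χ ≫ f = Spec.map (CommRingCat.ofHom a) ≫ S.fromSpecResidueField s' ∧
      χ (IsLocalRing.closedPoint K') ∈ Set.range v.base ∧
      ev T a χ h (MvPolynomial.map (algebraMap V (S.residueField s')) G) ≠ 0 := by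
  let P := pullback g g₀
  let ω : Spec (CommRingCat.of K) ⟶ P := pullback.lift χK (Spec.map (CommRingCat.ofHom aV)) hcond
  let gX : P ⟶ X := pullback.fst g g₀ ≫ v
  have hωX : ω ≫ gX = χK ≫ v := pullback.lift_fst_assoc _ _ _ _
  have hωU : ω (IsLocalRing.closedPoint K) ∈ gX ⁻¹ᵁ U := by
    show gX (ω _) ∈ U
    rw [← Scheme.Hom.comp_apply, hωX]
    exact hU
  let Φ := MvPolynomial.eval₂ (const (pullback.snd g g₀) (gX ⁻¹ᵁ U)) (fun j => gX.app U (T j)) G
  have hΦ : ω (IsLocalRing.closedPoint K) ∈ P.basicOpen Φ := by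
    rw [← val_ne_zero_iff ω _ hωU, val_section (pullback.snd g g₀) gX T G ω hωU (pullback.lift_snd _ _ _)]
    convert hne using 1
    show MvPolynomial.eval₂ aV _ G = MvPolynomial.eval₂ aV _ G
    congr 1
    funext j
    exact congr($(val_congr hωX U hωU) (T j))
  obtain ⟨O', hO'sub, hO', hmemO'⟩ := mem_nhds_iff.1 ((pullback.snd g g₀).isOpenMap.image_mem_nhds
    ((P.basicOpen Φ).2.mem_nhds hΦ))
  obtain ⟨ω', hω', hω'bot⟩ := hO'sub
    (((PrimeSpectrum.le_iff_specializes (⊥ : PrimeSpectrum V) _).1 bot_le).mem_open hO' hmemO')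
  let χ' : Spec (CommRingCat.of (P.residueField ω')) ⟶ P := P.fromSpecResidueField ω'
  have hpt' : χ' (IsLocalRing.closedPoint (P.residueField ω')) = ω' := Scheme.fromSpecResidueField_apply ω' _
  let ρ : V →+* P.residueField ω' := (Spec.preimage (χ' ≫ pullback.snd g g₀)).hom
  have hρ : χ' ≫ pullback.snd g g₀ = Spec.map (CommRingCat.ofHom ρ) := (Spec.map_preimage _).symm
  have hρinj : Function.Injective ρ := by
    rw [RingHom.injective_iff_ker_eq_bot]
    have h2 : (⊥ : PrimeSpectrum V) = Spec.map (CommRingCat.ofHom ρ) (⊥ : PrimeSpectrum (P.residueField ω')) := by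
      rw [← hω'bot, ← hρ, Scheme.Hom.comp_apply]
      exact congrArg _ (Scheme.fromSpecResidueField_apply ω' _).symm
    exact (congrArg PrimeSpectrum.asIdeal h2).symm
  obtain ⟨ρ', hρ''⟩ := exists_lift V ρ hρinj
  have hρ' : CommRingCat.ofHom (algebraMap V (S.residueField s')) ≫ CommRingCat.ofHom ρ' = CommRingCat.ofHom ρ :=
    CommRingCat.hom_ext hρ''
  have hU' : χ' (IsLocalRing.closedPoint (P.residueField ω')) ∈ gX ⁻¹ᵁ U := by
    rw [hpt']; exact Scheme.basicOpen_le _ _ hω'
  refine ⟨P.residueField ω', inferInstance, ρ', χ' ≫ gX, hU', ?_, ?_, fun h0 => ?_⟩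
  · simp only [gX, Category.assoc, hv]
    rw [pullback.condition, ← Category.assoc, hρ, ← hρ', Spec.map_comp, Category.assoc, hgen]
  · exact ⟨pullback.fst g g₀ (χ' (IsLocalRing.closedPoint _)), rfl⟩
  · have h1 : val χ' (gX ⁻¹ᵁ U) hU' Φ ≠ 0 := (val_ne_zero_iff _ _ _ _).2 (hpt'.symm ▸ hω')
    rw [val_section (pullback.snd g g₀) gX T G χ' hU' hρ] at h1
    refine h1 ?_
    show MvPolynomial.eval₂ ρ _ G = 0
    rw [← hρ'',
      ← MvPolynomial.eval₂_map]
    exact h0

/-- Dominance propagates to generisations along universally open morphisms. -/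
theorem dom_of_specializes {ι : Type u} {Y : ι → Scheme.{u}} (g : ∀ i, Y i ⟶ S) [∀ i, UniversallyOpen (g i)]
    (v : ∀ i, Y i ⟶ X) (hv : ∀ i, v i ≫ f = g i) {s s' : S} (hs : s' ⤳ s) {U : X.Opens} {T : Fin n → Γ(X, U)}
    (hdom : Dom f s (⋃ i, Set.range (v i).base) T) : Dom f s' (⋃ i, Set.range (v i).base) T := by
  intro G' hG'
  obtain ⟨V, g₀, φ, hgen, hcl⟩ := exists_valuation_base hs
  obtain ⟨c, G, hc, hcG, hGres⟩ := exists_normalised V hG'
  -- a point of the closed fibre where it does not vanish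
  obtain ⟨G₀, hG₀, hwit⟩ := exists_witness φ hGres
  obtain ⟨K₁, _, a₁, χ₁, h₁, H₁, hE₁, hev₁⟩ := hdom G₀ hG₀
  obtain ⟨_, ⟨i, rfl⟩, w, hw⟩ := hE₁
  obtain ⟨K₀, _, ρ₀, χY, hχY⟩ := exists_point_over (v i) χ₁ w hw
  have he₀ : ρ₀.comp (ev T a₁ χ₁ h₁) G₀ ≠ 0 := (map_ne_zero ρ₀).2 hev₁
  obtain ⟨K, _, σ, τ, hagree, hτG⟩ := hwit K₀ _ he₀
  -- the point of the base change
  let aV : V →+* K := (τ.comp MvPolynomial.C).comp (IsLocalRing.residue V)
  let χK : Spec (CommRingCat.of K) ⟶ Y i := Spec.map (CommRingCat.ofHom σ) ≫ χY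
  have hCval : (σ.comp ρ₀).comp a₁ = (τ.comp MvPolynomial.C).comp φ := by
    ext r
    have := hagree (MvPolynomial.C r)
    rw [MvPolynomial.map_C] at this
    simpa [ev] using this
  have hcond : χK ≫ g i = Spec.map (CommRingCat.ofHom aV) ≫ g₀ := by
    rw [show CommRingCat.ofHom aV = CommRingCat.ofHom (IsLocalRing.residue V) ≫
      CommRingCat.ofHom (τ.comp MvPolynomial.C) from rfl]
    simp only [Spec.map_comp, Category.assoc, χK]
    rw [hcl, ← hv i, reassoc_of% hχY, H₁, ← Spec.map_comp_assoc, ← Spec.map_comp_assoc, ← Spec.map_comp_assoc,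
      ← CommRingCat.ofHom_comp, ← CommRingCat.ofHom_comp, ← CommRingCat.ofHom_comp]
    rw [hCval]
  have hX : χK ≫ v i = Spec.map (CommRingCat.ofHom (σ.comp ρ₀)) ≫ χ₁ := by
    simp only [χK, Category.assoc, hχY]
    rw [← Spec.map_comp_assoc]
    rfl
  have hpt : Spec.map (CommRingCat.ofHom (σ.comp ρ₀)) (IsLocalRing.closedPoint K) = IsLocalRing.closedPoint K₁ :=
    @Subsingleton.elim _ (inferInstanceAs (Subsingleton (PrimeSpectrum K₁))) _ _
  have hU : (χK ≫ v i) (IsLocalRing.closedPoint K) ∈ U := by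
    rw [hX, Scheme.Hom.comp_apply, hpt]
    exact h₁
  have hne : ev T aV (χK ≫ v i) hU G ≠ 0 := by
    convert hτG using 1
    show MvPolynomial.eval₂ aV _ G = _
    rw [← MvPolynomial.eval₂_map]
    conv_rhs => rw [← MvPolynomial.eval₂_eta (MvPolynomial.map (IsLocalRing.residue V) G)]
    rw [MvPolynomial.eval₂_comp_left τ]
    congr 1
    funext j
    have := hagree (MvPolynomial.X j)
    rw [MvPolynomial.map_X] at this
    rw [Function.comp_apply, ← this, val_congr hX U hU, val_SpecMap]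
    simp [ev]
  obtain ⟨K', hK', a, χ, h, H, hE, hne'⟩ := exists_generic_witness (g i) (v i) (hv i) V g₀ hgen T G χK aV hcond hU hne
  refine ⟨K', hK', a, χ, h, H, Set.mem_iUnion.2 ⟨i, hE⟩, fun h0 => hne' ?_⟩
  rw [hcG, map_mul, h0, mul_zero]

end Groth.Agent.FibreDense
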