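import Groth.Agent.DimTrdeg.Scheme
import Mathlib

/-!
# Values of functions at field-valued points
-/

set_option autoImplicit false
set_option backward.isDefEq.respectTransparency false
universe u

open CategoryTheory Limits AlgebraicGeometry

namespace Groth.Agent.FibreDense

variable {P : Scheme.{u}} {K : Type u} [Field K]

theorem range_subset (χ : Spec (CommRingCat.of K) ⟶ P) (O : P.Opens)
    (h : χ (IsLocalRing.closedPoint K) ∈ O) : (⊤ : (Spec (CommRingCat.of K)).Opens) ≤ χ ⁻¹ᵁ O := fun z _ => by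
  have : z = IsLocalRing.closedPoint K := @Subsingleton.elim _ (inferInstanceAs (Subsingleton (PrimeSpectrum K))) _ _
  subst this
  exact h

/-- The value at a field valued point. -/
noncomputable def val (χ : Spec (CommRingCat.of K) ⟶ P) (O : P.Opens) (h : χ (IsLocalRing.closedPoint K) ∈ O) :
    Γ(P, O) ⟶ CommRingCat.of K :=
  χ.appLE O ⊤ (range_subset χ O h) ≫ (Scheme.ΓSpecIso (CommRingCat.of K)).hom

theorem val_congr {χ χ' : Spec (CommRingCat.of K) ⟶ P} (e : χ = χ') (O : P.Opens)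
    (h : χ (IsLocalRing.closedPoint K) ∈ O) : val χ O h = val χ' O (e ▸ h) := by
  subst e; rfl

theorem val_comp {Q : Scheme.{u}} (χ : Spec (CommRingCat.of K) ⟶ P) (g : P ⟶ Q) (O : Q.Opens)
    (h : (χ ≫ g) (IsLocalRing.closedPoint K) ∈ O) :
    val (χ ≫ g) O h = g.app O ≫ val χ (g ⁻¹ᵁ O) h := by
  simp only [val, Scheme.Hom.appLE, Scheme.Hom.comp_app, Category.assoc]

theorem val_res (χ : Spec (CommRingCat.of K) ⟶ P) {O O' : P.Opens} (e : O' ≤ O)
    (h : χ (IsLocalRing.closedPoint K) ∈ O') :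
    P.presheaf.map (homOfLE e).op ≫ val χ O' h = val χ O (e h) := by
  simp only [val, ← Category.assoc, Scheme.Hom.map_appLE]

theorem val_SpecMap {L : Type u} [Field L] (a : CommRingCat.of K ⟶ CommRingCat.of L)
    (ψ : Spec (CommRingCat.of K) ⟶ P) (O : P.Opens) (h : (Spec.map a ≫ ψ) (IsLocalRing.closedPoint L) ∈ O) :
    val (Spec.map a ≫ ψ) O h = val ψ O (by
      have e : Spec.map a (IsLocalRing.closedPoint L) = IsLocalRing.closedPoint K :=
        @Subsingleton.elim _ (inferInstanceAs (Subsingleton (PrimeSpectrum K))) _ _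
      rw [Scheme.Hom.comp_apply, e] at h; exact h) ≫ a := by
  simp only [val, Category.assoc]
  rw [← Scheme.ΓSpecIso_naturality, ← Category.assoc]
  congr 1

theorem val_fromSpecResidueField (z : P) (O : P.Opens) (hz : z ∈ O) :
    val (K := P.residueField z) (P.fromSpecResidueField z) O
      ((Scheme.fromSpecResidueField_apply z _).symm ▸ hz) = P.evaluation O z hz := by
  have h0 : (⊤ : (Spec (P.presheaf.stalk z)).Opens) ≤ P.fromSpecStalk z ⁻¹ᵁ O := fun w _ => by
    have h2 : P.fromSpecStalk z w ∈ ({y | y ⤳ z} : Set P) := Scheme.range_fromSpecStalk.le ⟨w, rfl⟩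
    exact h2.mem_open O.2 hz
  have h1 : (P.fromSpecStalk z).appLE O ⊤ h0 = P.presheaf.germ O z hz ≫ (Scheme.ΓSpecIso (P.presheaf.stalk z)).inv := by
    rw [Scheme.Hom.appLE, Scheme.fromSpecStalk_app hz, Category.assoc, Category.assoc, ← Functor.map_comp]
    refine congrArg (_ ≫ ·) ((congrArg (_ ≫ ·) ?_).trans (Category.comp_id _))
    exact CategoryTheory.Functor.map_id _ _
  simp only [val, Scheme.fromSpecResidueField]
  rw [← Scheme.Hom.appLE_comp_appLE _ _ O ⊤ ⊤ h0 le_rfl, h1, Category.assoc, Category.assoc]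
  have h2 : ∀ e, (Spec.map (P.residue z)).appLE ⊤ ⊤ e = (Spec.map (P.residue z)).appTop :=
    fun _ => (Scheme.Hom.app_eq_appLE _).symm
  erw [h2]
  show P.presheaf.germ O z hz ≫ (Scheme.ΓSpecIso (P.presheaf.stalk z)).inv ≫ (Spec.map (P.residue z)).appTop ≫
    (Scheme.ΓSpecIso (P.residueField z)).hom = _
  rw [Scheme.ΓSpecIso_naturality, Iso.inv_hom_id_assoc]
  rfl

theorem val_ne_zero_iff (χ : Spec (CommRingCat.of K) ⟶ P) (O : P.Opens) (h : χ (IsLocalRing.closedPoint K) ∈ O)
    (φ : Γ(P, O)) : val χ O h φ ≠ 0 ↔ χ (IsLocalRing.closedPoint K) ∈ P.basicOpen φ := by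
  obtain ⟨a, ha⟩ : ∃ a : P.residueField (χ (IsLocalRing.closedPoint K)) ⟶ CommRingCat.of K,
      Spec.map a ≫ P.fromSpecResidueField _ = χ := ⟨_, (Scheme.SpecToEquivOfField K P).left_inv χ⟩
  rw [val_congr ha.symm O h,
    val_SpecMap (K := P.residueField (χ (IsLocalRing.closedPoint K))) a _ O (ha.symm ▸ h),
    val_fromSpecResidueField _ O h]
  show a (P.evaluation O _ h φ) ≠ 0 ↔ _
  rw [map_ne_zero, Scheme.evaluation_ne_zero_iff_mem_basicOpen]

variable {R : Type u} [CommRing R]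

/-- The constant functions coming from the base. -/
noncomputable def const (q : P ⟶ Spec (CommRingCat.of R)) (O : P.Opens) : R →+* Γ(P, O) :=
  ((Scheme.ΓSpecIso (CommRingCat.of R)).inv ≫ q.appTop ≫ P.presheaf.map (homOfLE le_top).op).hom

theorem val_const (q : P ⟶ Spec (CommRingCat.of R)) (χ : Spec (CommRingCat.of K) ⟶ P) (O : P.Opens)
    (h : χ (IsLocalRing.closedPoint K) ∈ O) {a : CommRingCat.of R ⟶ CommRingCat.of K}
    (ha : χ ≫ q = Spec.map a) : (val χ O h).hom.comp (const q O) = a.hom := by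
  refine congrArg CommRingCat.Hom.hom (?_ : ((Scheme.ΓSpecIso (CommRingCat.of R)).inv ≫ q.appTop ≫
    P.presheaf.map (homOfLE le_top).op) ≫ val χ O h = a)
  rw [Category.assoc, Category.assoc, val_res, Iso.inv_comp_eq]
  show q.app ⊤ ≫ val χ (q ⁻¹ᵁ ⊤) _ = _
  rw [← val_comp χ q ⊤ trivial, val_congr ha ⊤ trivial]
  refine Eq.trans ?_ (Scheme.ΓSpecIso_naturality a)
  simp [val, Scheme.Hom.appLE]

end Groth.Agent.FibreDense
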